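import Cfsg.Agent.RankTwoOdd.PCentral
import Cfsg.Agent.Transfer.RankTwoNormal
import Cfsg.Agent.OddOrder.BG4.RankTwoSolvable
import Cfsg.Agent.PLocal.PSolvable
import Cfsg.Agent.LocalStructure.Elements

/-!
# Chief factors of `p`-solvable groups of `p`-rank at most two, `p` odd

Every `p`-chief factor has order at most `p²`: there is a normal series whose indices are not
divisible by `p³`.
-/

set_option autoImplicit false
set_option linter.unusedSectionVars false
set_option linter.style.haveILetI false

open Subgroup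
open scoped commutatorElement

namespace CfsgLib.ChiefRankTwo

variable {G : Type*} [Group G] [Finite G] {p : ℕ} [hp : Fact p.Prime]

/-- The top of a normal series, from a normal `p'`-subgroup, with no index divisible by `p³`. -/
inductive Tower (p : ℕ) {G : Type*} [Group G] : Subgroup G → Prop
  | base (N : Subgroup G) (hN : N.Normal) (h : ¬ p ∣ Nat.card N) : Tower p N
  | step (N N' : Subgroup G) (hT : Tower p N) (hN' : N'.Normal) (hle : N ≤ N')
      (h : ¬ p ^ 3 ∣ N.relIndex N') : Tower p N'

theorem Tower.normal {N : Subgroup G} (h : Tower p N) : N.Normal := by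
  cases h with
  | base _ hN _ => exact hN
  | step _ _ _ hN' _ _ => exact hN'

/-- A `p`-chief factor covered by a tower has order dividing `p²`. -/
theorem Tower.chief {N : Subgroup G} (hT : Tower p N) {H K : Subgroup G} [H.Normal] [K.Normal]
    (hKH : K < H) {n : ℕ} (hn : K.relIndex H = p ^ n)
    (hchief : ∀ L : Subgroup G, L.Normal → K ≤ L → L ≤ H → L = K ∨ L = H)
    (hN : ¬ H ⊓ N ≤ K) : n ≤ 2 := by
  have hcov : ∀ M : Subgroup G, M.Normal → ¬ H ⊓ M ≤ K → K.relIndex (H ⊓ M) = p ^ n := by
    intro M hM hMK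
    haveI := hM
    have : (H ⊓ M) ⊔ K = H := by
      rcases hchief ((H ⊓ M) ⊔ K) inferInstance le_sup_right (sup_le inf_le_left hKH.le) with h | h
      · exact absurd (h ▸ le_sup_left) hMK
      · exact h
    rw [← hn, ← relIndex_sup_right (H := H ⊓ M) (K := K), this]
  induction hT with
  | base N hN' h =>
    have h1 := hcov N hN' hN
    have h2 : p ^ n ∣ Nat.card N :=
      h1 ▸ ((relIndex_dvd_card K (H ⊓ N)).trans (card_dvd_of_le inf_le_right))
    rcases Nat.eq_zero_or_pos n with h3 | h3
    · omega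
    · exact absurd ((dvd_pow_self p h3.ne').trans h2) h
  | step N N' hT hN' hle h ih =>
    by_cases hNK : H ⊓ N ≤ K
    swap
    · exact ih hNK
    haveI := hT.normal
    have h1 := hcov N' hN' hN
    have h2 : (K ⊓ (H ⊓ N')).relIndex (H ⊓ N') ∣ N.relIndex (H ⊓ N') := by
      rw [← inf_relIndex_right N (H ⊓ N')]
      refine relIndex_dvd_of_le_left _ ?_
      exact le_inf ((le_inf (inf_le_right.trans inf_le_left) inf_le_left).trans hNK) inf_le_right
    have h3 : N.relIndex (H ⊓ N') ∣ N.relIndex N' := by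
      rw [← relIndex_sup_right (H := H ⊓ N') (K := N)]
      exact Dvd.intro _ (relIndex_mul_relIndex N ((H ⊓ N') ⊔ N) N' le_sup_right
        (sup_le inf_le_right hle))
    rw [inf_relIndex_right, h1] at h2
    by_contra hn3
    exact h ((pow_dvd_pow p (by omega)).trans (h2.trans h3))

/-- The index of the centralizer of a small normal elementary subgroup. -/
theorem not_sq_dvd_index_centralizer {V : Subgroup G} [V.Normal] (hV : ∀ v ∈ V, v ^ p = 1)
    (hcard : Nat.card V ≤ p ^ 2) : ¬ p ^ 2 ∣ (centralizer (V : Set G)).index := by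
  obtain ⟨S⟩ : Nonempty (Sylow p G) := inferInstance
  have hVp : IsPGroup p V := fun x => ⟨1, Subtype.ext (by simpa using hV x x.2)⟩
  have hVS : V ≤ (S : Subgroup G) := (PLocal.le_pCore hVp).trans (PLocal.pCore_le_sylow S)
  set C := centralizer (V : Set G)
  have hle : C.relIndex (S : Subgroup G) ≤ p := by
    have h := OddOrder.BG4.index_centralizer_le (R := (S : Subgroup G)) S.2
      (V := V.subgroupOf (S : Subgroup G)) (fun v hv => Subtype.ext (by simpa using hV v hv))
      (by rwa [Nat.card_congr (subgroupOfEquivOfLe hVS).toEquiv])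
    have e : centralizer ((V.subgroupOf (S : Subgroup G) : Subgroup (S : Subgroup G)) :
        Set (S : Subgroup G)) = C.subgroupOf (S : Subgroup G) := by
      ext x
      simp only [mem_subgroupOf, C, mem_centralizer_iff]
      exact ⟨fun h v hv => congrArg Subtype.val (h ⟨v, hVS hv⟩ hv),
        fun h v hv => Subtype.ext (h v hv)⟩
    rwa [e] at h
  intro hd
  rw [← relIndex_mul_index (le_sup_right : C ≤ (S : Subgroup G) ⊔ C), relIndex_sup_right] at hd
  have hcop : (p ^ 2).Coprime ((S : Subgroup G) ⊔ C).index :=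
    Nat.Coprime.pow_left 2 ((Nat.Prime.coprime_iff_not_dvd hp.out).mpr fun h =>
      S.not_dvd_index (h.trans (index_dvd_of_le le_sup_left)))
  have h1 := Nat.le_of_dvd (Nat.pos_of_ne_zero index_ne_zero_of_finite)
    (hcop.dvd_of_dvd_mul_right hd)
  have h2 : p ^ 1 < p ^ 2 := Nat.pow_lt_pow_right hp.out.one_lt (by norm_num)
  rw [pow_one] at h2
  exact absurd (h1.trans hle) (by omega)

theorem not_cube_dvd_of_le {m : ℕ} (h0 : m ≠ 0) (h : m ≤ p ^ 2) : ¬ p ^ 3 ∣ m := fun hd => by
  have h1 := Nat.le_of_dvd (Nat.pos_of_ne_zero h0) hd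
  have h2 : p ^ 2 < p ^ 3 := Nat.pow_lt_pow_right hp.out.one_lt (by norm_num)
  omega

/-- The elements of a normal `p`-central subgroup killed by `p ^ l`. -/
theorem exists_tower_of_pCentral (hp2 : p ≠ 2) {K : Subgroup G} [K.Normal] (hK : IsPGroup p K)
    (hc : RankTwoOdd.PCentral p K) (hom : Nat.card (RankTwoOdd.omega hc) ≤ p ^ 2) :
    Tower p K := by
  let O : ℕ → Subgroup G := fun l =>
    { carrier := {x | x ∈ K ∧ x ^ p ^ l = 1}
      one_mem' := ⟨one_mem _, one_pow _⟩
      mul_mem' := fun {a b} ha hb => ⟨mul_mem ha.1 hb.1, by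
        have := RankTwoOdd.mul_pow_eq_one hp2 hK hc (l := l) (x := ⟨a, ha.1⟩) (y := ⟨b, hb.1⟩)
          (Subtype.ext ha.2) (Subtype.ext hb.2)
        exact congrArg Subtype.val this⟩
      inv_mem' := fun {a} ha => ⟨inv_mem ha.1, by rw [inv_pow, ha.2, inv_one]⟩ }
  have hOn : ∀ l, (O l).Normal := fun l =>
    ⟨fun x hx g => ⟨(inferInstance : K.Normal).conj_mem x hx.1 g, by rw [conj_pow, hx.2]; group⟩⟩
  have hT : ∀ l, Tower p (O l) := by
    intro l
    induction l with
    | zero =>
      refine .base _ (hOn 0) ?_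
      have : O 0 = ⊥ := eq_bot_iff.mpr fun x hx => mem_bot.mpr (by simpa using hx.2)
      rw [this, card_bot]
      exact hp.out.not_dvd_one
    | succ l ih =>
      have hle : O l ≤ O (l + 1) := fun x hx => ⟨hx.1, by rw [pow_succ, pow_mul, hx.2, one_pow]⟩
      refine .step _ _ ih (hOn _) hle (not_cube_dvd_of_le ?_ ?_)
      · exact index_ne_zero_of_finite
      let φ : O (l + 1) →* RankTwoOdd.omega hc :=
        MonoidHom.mk' (fun x => ⟨(⟨x.1, x.2.1⟩ : K) ^ p ^ l, by
          rw [RankTwoOdd.mem_omega, ← pow_mul, ← pow_succ]; exact Subtype.ext x.2.2⟩)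
          fun x y => Subtype.ext (RankTwoOdd.mul_pow_exact hp2 hK hc
            (x := (⟨x.1, x.2.1⟩ : K)) (y := ⟨y.1, y.2.1⟩) (Subtype.ext y.2.2))
      have hker : φ.ker = (O l).subgroupOf (O (l + 1)) := by
        ext x
        rw [MonoidHom.mem_ker, mem_subgroupOf]
        constructor
        · intro h
          exact ⟨x.2.1, congrArg (fun z : RankTwoOdd.omega hc => ((z : K) : G)) h⟩
        · intro h
          exact Subtype.ext (Subtype.ext h.2)
      rw [relIndex, ← hker, index_ker]
      exact (card_le_card_group _).trans hom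
  obtain ⟨k, hk⟩ := IsPGroup.iff_card.mp hK
  have : O k = K := le_antisymm (fun x hx => hx.1) fun x hx => ⟨hx, by
    have h := pow_card_eq_one' (x := (⟨x, hx⟩ : K))
    rw [hk] at h
    exact congrArg Subtype.val h⟩
  exact this ▸ hT k

/-- A normal exponent `p` subgroup on which coprime elements act faithfully, with all elements of
order `p` of its centralizer. -/
theorem exists_frame (hp2 : p ≠ 2) (hG : Cfsg.IsPSolvable p G) (hr : Cfsg.PRankLE p 2 G)
    (hO : Cfsg.pPrimeCore p G = ⊥) :
    ∃ R : Subgroup G, R.Normal ∧ (∀ x ∈ R, x ^ p = 1) ∧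
      IsPGroup p (centralizer (R : Set G)) ∧
      ∀ x ∈ centralizer (R : Set G), x ^ p = 1 → x ∈ R := by
  set Q := Cfsg.pCore p G with hQdef
  haveI : Q.Normal := Cfsg.pCore_normal p G
  have hQp : IsPGroup p Q := PLocal.isPGroup_pCore p G
  have hCQ : centralizer (Q : Set G) ≤ Q := PLocal.centralizer_pCore_le hG hO
  have hQr : Cfsg.PRankLE p 2 Q := OddOrder.BG4.pRankLE_subgroup Q hr
  obtain ⟨Q₀, hQ₀c, hQ₀e, -, hQ₀f⟩ := OddOrder.BG4.exists_critical_exponent hp2 hQp
  haveI := hQ₀c
  obtain ⟨R, ⟨hQR, hRQ, hRn, hRe⟩, hRmax⟩ := Set.Finite.exists_maximal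
    (s := {R : Subgroup G | Q₀.map Q.subtype ≤ R ∧ R ≤ Q ∧ R.Normal ∧ ∀ x ∈ R, x ^ p = 1})
    (Set.toFinite _) ⟨Q₀.map Q.subtype, le_rfl, map_subtype_le _, inferInstance, by
      rintro _ ⟨x, hx, rfl⟩; rw [← map_pow, hQ₀e x hx, map_one]⟩
  haveI := hRn
  set C := centralizer (R : Set G) with hC
  have hCp : IsPGroup p C := by
    refine LocalStructure.isPGroup_of_coprime_eq_one fun b hb hbo => ?_
    have h1 : MulAut.conjNormal (H := Q) b = 1 := by
      refine hQ₀f _ (Nat.Coprime.coprime_dvd_left (orderOf_map_dvd _ b) hbo) fun x hx => ?_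
      apply Subtype.ext
      rw [MulAut.conjNormal_apply]
      have := mem_centralizer_iff.mp hb _ (hQR ⟨x, hx, rfl⟩)
      calc b * (x : G) * b⁻¹ = (x : G) * b * b⁻¹ := by rw [show b * (x : G) = (x : G) * b from this.symm]
        _ = (x : G) := mul_inv_cancel_right _ _
    have h2 : b ∈ Q := hCQ (mem_centralizer_iff.mpr fun y hy => by
      have := congrArg Subtype.val (DFunLike.congr_fun h1 ⟨y, hy⟩)
      rw [MulAut.conjNormal_apply] at this
      simp only [MulAut.one_apply] at this
      calc y * b = b * y * b⁻¹ * b := by rw [this]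
        _ = b * y := by group)
    exact LocalStructure.eq_one_of_coprime_of_mem hQp h2 hbo
  haveI : C.Normal := normal_centralizer
  have hCleQ : C ≤ Q := PLocal.le_pCore hCp
  refine ⟨R, hRn, hRe, hCp, fun x hx hxp => ?_⟩
  have hxQ := hCleQ hx
  -- a large abelian subgroup of `R` absorbs `x`
  have key : ∀ A : Subgroup G, A ≤ R → IsMulCommutative A → p ^ 2 ≤ Nat.card A → x ∈ R := by
    intro A hAR hA hcard
    have hcomm : ∀ a ∈ A, Commute a x := fun a ha => mem_centralizer_iff.mp hx a (hAR ha)
    have hab : IsMulCommutative (A ⊔ zpowers x : Subgroup G) := by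
      rw [← le_centralizer_iff_isMulCommutative]
      have h1 : A ≤ centralizer ((A ⊔ zpowers x : Subgroup G) : Set G) := by
        rw [le_centralizer_iff]
        exact sup_le (le_centralizer_iff_isMulCommutative.mpr hA)
          (zpowers_le.mpr (mem_centralizer_iff.mpr fun a ha => (hcomm a ha).eq))
      refine sup_le h1 ?_
      rw [le_centralizer_iff]
      refine sup_le (fun a ha => ?_) (le_centralizer_iff_isMulCommutative.mpr inferInstance)
      refine mem_centralizer_iff.mpr fun y hy => ?_
      obtain ⟨k, rfl⟩ := mem_zpowers_iff.mp hy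
      exact ((hcomm a ha).zpow_right k).eq.symm
    have hexp : ∀ a ∈ A ⊔ zpowers x, a ^ p = 1 := by
      intro a ha
      rw [sup_eq_closure] at ha
      induction ha using Subgroup.closure_induction with
      | mem a ha =>
        rcases ha with ha | ha
        · exact hRe a (hAR ha)
        · obtain ⟨k, rfl⟩ := mem_zpowers_iff.mp ha
          rw [← zpow_natCast, zpow_comm, zpow_natCast, hxp, one_zpow]
      | one => exact one_pow p
      | mul a b ha hb iha ihb =>
        rw [← sup_eq_closure] at ha hb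
        have : Commute a b :=
          (congrArg Subtype.val (hab.is_comm.comm ⟨a, ha⟩ ⟨b, hb⟩) : a * b = b * a)
        rw [this.mul_pow, iha, ihb, one_mul]
      | inv a _ iha => rw [inv_pow, iha, inv_one]
    have hle := hr _ hab hexp
    have heq : A = A ⊔ zpowers x := eq_of_le_of_card_ge le_sup_left (hle.trans hcard)
    exact hAR (heq.ge (mem_sup_right (mem_zpowers x)))
  have hRp : IsPGroup p R := fun r => ⟨1, Subtype.ext (by simpa using hRe r r.2)⟩
  obtain ⟨n, hn⟩ := IsPGroup.iff_card.mp hRp
  rcases Nat.lt_or_ge n 2 with hsmall | hbig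
  swap
  · -- `|R| ≥ p²`
    have hR2 : p ^ 2 ≤ Nat.card R := hn ▸ Nat.pow_le_pow_right hp.out.pos hbig
    by_cases hab : IsMulCommutative R
    · exact key R le_rfl hab hR2
    haveI : Nontrivial R := by
      rw [← Finite.one_lt_card_iff_nontrivial, hn]
      exact Nat.one_lt_pow (by omega) hp.out.one_lt
    haveI := hRp.center_nontrivial
    obtain ⟨a, ha⟩ : ∃ a : R, a ∉ center R := by
      by_contra h
      simp only [not_exists, not_not] at h
      exact hab ⟨⟨fun u v => (mem_center_iff.mp (h v) u)⟩⟩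
    set B := center R ⊔ zpowers a with hB
    have hBc : IsMulCommutative B := by
      rw [← le_centralizer_iff_isMulCommutative]
      have h1 : zpowers a ≤ centralizer (B : Set R) := by
        rw [le_centralizer_iff]
        exact sup_le (center_le_centralizer _)
          (le_centralizer_iff_isMulCommutative.mpr inferInstance)
      exact sup_le (center_le_centralizer _) h1
    have hlt : center R < B := lt_of_le_of_ne le_sup_left
      fun h => ha (h.ge (mem_sup_right (mem_zpowers a)))
    have hB2 : p ^ 2 ≤ Nat.card B := by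
      obtain ⟨i, hi⟩ := IsPGroup.iff_card.mp (hRp.to_subgroup (center R))
      obtain ⟨j, hj⟩ := IsPGroup.iff_card.mp (hRp.to_subgroup B)
      have h1 : 1 < p ^ i := hi ▸ Finite.one_lt_card
      have h2 : p ^ i < p ^ j := hi ▸ hj ▸ Set.ncard_lt_ncard (SetLike.coe_ssubset_coe.mpr hlt) (Set.toFinite _)
      have h3 := (Nat.pow_lt_pow_iff_right hp.out.one_lt).mp h2
      have h4 : i ≠ 0 := fun h => by simp [h] at h1
      rw [hj]
      exact Nat.pow_le_pow_right hp.out.pos (by omega)
    refine key (B.map R.subtype) (map_subtype_le _) ?_ ?_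
    · exact ⟨⟨by
        rintro ⟨_, u, hu, rfl⟩ ⟨_, v, hv, rfl⟩
        exact Subtype.ext (congrArg (fun z : B => ((z : R) : G)) (hBc.is_comm.comm ⟨u, hu⟩ ⟨v, hv⟩))⟩⟩
    · rwa [card_map_of_injective R.subtype_injective]
  · -- `|R| ≤ p`: then `O_p(G)` is cyclic
    let T : Subgroup G :=
      { carrier := {t | t ∈ Q ∧ t ^ p = 1 ∧ ∀ y ∈ Q, ∀ z ∈ Q, Commute ⁅t, y⁆ z}
        one_mem' := ⟨one_mem _, one_pow _, fun y _ z _ => by simp⟩
        mul_mem' := fun {a b} ha hb => by
          refine ⟨mul_mem ha.1 hb.1, ?_, fun y hy z hz => ?_⟩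
          · have := OddOrder.BG4.mul_pow_eq_one (R := Q) (x := ⟨a, ha.1⟩) (y := ⟨b, hb.1⟩) hp2
              (fun z => Subtype.ext (hb.2.2 a ha.1 z z.2)) (Subtype.ext ha.2.1) (Subtype.ext hb.2.1)
            exact congrArg Subtype.val this
          · rw [commutatorElement_mul_left_eq_conj_mul]
            have h1 : a * ⁅b, y⁆ * a⁻¹ = ⁅b, y⁆ := by
              rw [(hb.2.2 y hy a ha.1).symm.eq, mul_inv_cancel_right]
            rw [h1]
            exact (hb.2.2 y hy z hz).mul_left (ha.2.2 y hy z hz)
        inv_mem' := fun {a} ha => by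
          refine ⟨inv_mem ha.1, by rw [inv_pow, ha.2.1, inv_one], fun y hy z hz => ?_⟩
          have e : ⁅a⁻¹, y⁆ = a⁻¹ * ⁅a, y⁆⁻¹ * a := by simp only [commutatorElement_def]; group
          have h1 : ⁅a⁻¹, y⁆ = ⁅a, y⁆⁻¹ := by
            rw [e, ((ha.2.2 y hy a⁻¹ (inv_mem ha.1)).inv_left).symm.eq, inv_mul_cancel_right]
          rw [h1]
          exact (ha.2.2 y hy z hz).inv_left }
    haveI hTn : T.Normal := by
      refine ⟨fun t ht g => ⟨(inferInstance : Q.Normal).conj_mem t ht.1 g,
        by rw [conj_pow, ht.2.1]; group, fun y hy z hz => ?_⟩⟩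
      have hy' := (inferInstance : Q.Normal).conj_mem y hy g⁻¹
      have hz' := (inferInstance : Q.Normal).conj_mem z hz g⁻¹
      rw [inv_inv] at hy' hz'
      have h := (ht.2.2 _ hy' _ hz').map (MulAut.conj g).toMonoidHom
      simp only [map_commutatorElement, MulEquiv.coe_toMonoidHom, MulAut.conj_apply] at h
      have e1 : ∀ w : G, g * (g⁻¹ * w * g) * g⁻¹ = w := fun w => by group
      rwa [e1, e1] at h
    have hRT : R ≤ T := by
      intro r hr'
      refine ⟨hRQ hr', hRe r hr', fun y hy z hz => ?_⟩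
      have hle : R.subgroupOf Q ≤ center Q := by
        rcases (show n = 0 ∨ n = 1 by omega) with rfl | rfl
        · have : R = ⊥ := card_eq_one.mp (by simpa using hn)
          rw [this, bot_subgroupOf]; exact bot_le
        · exact OddOrder.BG4.le_center_of_normal_card_prime hQp
            (by rw [Nat.card_congr (subgroupOfEquivOfLe hRQ).toEquiv, hn, pow_one])
      have h1 : ⁅r, y⁆ = 1 := commutatorElement_eq_one_iff_mul_comm.mpr
        (congrArg Subtype.val (mem_center_iff.mp
          (hle (mem_subgroupOf.mpr hr' : (⟨r, hRQ hr'⟩ : Q) ∈ R.subgroupOf Q)) ⟨y, hy⟩)).symm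
      rw [h1]
      exact Commute.one_left z
    have hTR : T ≤ R := hRmax ⟨hQR.trans hRT, fun t ht => ht.1, hTn, fun t ht => ht.2.1⟩ hRT
    have hcyc : IsCyclic Q := by
      by_contra hnc
      obtain ⟨N, hN, hNe, hNc⟩ := Transfer.exists_normal_elem_card_sq hp2 hQp hnc
      haveI := hN
      have hNT : N.map Q.subtype ≤ T := by
        rintro _ ⟨a, ha, rfl⟩
        refine ⟨a.2, by rw [← map_pow, hNe.2 a ha, map_one], fun y hy z hz => ?_⟩
        suffices h : ⁅a, (⟨y, hy⟩ : Q)⁆ ∈ center Q by
          exact congrArg Subtype.val (mem_center_iff.mp h ⟨z, hz⟩).symm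
        set c := QuotientGroup.mk' (center Q) with hc
        haveI : (N.map c).Normal := hN.map _ (QuotientGroup.mk'_surjective _)
        have hcen : c a ∈ center (Q ⧸ center Q) := by
          rcases eq_or_ne N ⊥ with hbot | hne
          · subst hbot
            replace ha := mem_bot.mp ha
            rw [ha, map_one]; exact one_mem _
          obtain ⟨w, hwN, hwc, hwo⟩ := OddOrder.BG4.exists_central_orderOf_prime hQp hne
          have hdvd : Nat.card (N.map c) ∣ p := by
            have h1 : Nat.card (N ⊓ center Q : Subgroup Q) * Nat.card (N.map c) = p ^ 2 := by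
              have h := relIndex_ker (K := N) c
              rw [hc, QuotientGroup.ker_mk'] at h
              rw [← hNc, hc, ← h, ← inf_relIndex_left N (center Q)]
              exact relIndex_bot_left (N ⊓ center Q : Subgroup Q) ▸ relIndex_bot_left N ▸
                relIndex_mul_relIndex ⊥ (N ⊓ center Q) N bot_le inf_le_left
            have h2 : p ∣ Nat.card (N ⊓ center Q : Subgroup Q) :=
              hwo ▸ Subgroup.orderOf_dvd_natCard _ ⟨hwN, hwc⟩
            obtain ⟨e, he⟩ := h2
            exact Dvd.intro_left e (mul_left_cancel₀ hp.out.ne_zero (by rw [← sq, ← h1, he]; ring))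
          rcases (Nat.dvd_prime hp.out).mp hdvd with h1 | h1
          · have : c a = 1 := mem_bot.mp ((card_eq_one.mp h1).le (mem_map_of_mem c ha))
            rw [this]; exact one_mem _
          · exact OddOrder.BG4.le_center_of_normal_card_prime (hQp.to_quotient _) h1
              (mem_map_of_mem c ha)
        rw [← QuotientGroup.eq_one_iff]
        show c ⁅a, ⟨y, hy⟩⁆ = 1
        rw [map_commutatorElement, commutatorElement_eq_one_iff_mul_comm]
        exact (mem_center_iff.mp hcen _).symm
      have h1 := card_le_of_le (hNT.trans hTR)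
      rw [card_map_of_injective Q.subtype_injective, hNc, hn] at h1
      exact absurd ((Nat.pow_le_pow_iff_right hp.out.one_lt).mp h1) (by omega)
    refine hTR ⟨hxQ, hxp, fun y hy z hz => ?_⟩
    have h1 : ⁅x, y⁆ = 1 := commutatorElement_eq_one_iff_mul_comm.mpr
      (congrArg Subtype.val (hcyc.isMulCommutative.is_comm.comm (⟨x, hxQ⟩ : Q) ⟨y, hy⟩))
    rw [h1]
    exact Commute.one_left z

/-- A tower to the whole group when `O_{p'}(G) = 1`. -/
theorem tower_top_of_core (hp2 : p ≠ 2) (hG : Cfsg.IsPSolvable p G) (hr : Cfsg.PRankLE p 2 G)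
    (hO : Cfsg.pPrimeCore p G = ⊥) : Tower p (⊤ : Subgroup G) := by
  obtain ⟨R, hRn, hRe, hCp, hin⟩ := exists_frame hp2 hG hr hO
  haveI := hRn
  set C := centralizer (R : Set G) with hC
  haveI : C.Normal := normal_centralizer
  set Z := R ⊓ C with hZ
  haveI : Z.Normal := inferInstance
  have hZc : IsMulCommutative Z := le_centralizer_iff_isMulCommutative.mp
    (inf_le_right.trans (centralizer_le inf_le_left))
  have hZ2 : Nat.card Z ≤ p ^ 2 := hr Z hZc fun z hz => hRe z hz.1
  have hpc : RankTwoOdd.PCentral p C := fun x hx y => Subtype.ext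
    (mem_centralizer_iff.mp y.2 x (hin x x.2 (congrArg Subtype.val hx)))
  have hTC : Tower p C := by
    refine exists_tower_of_pCentral hp2 hCp hpc (le_trans ?_ hZ2)
    refine Nat.card_le_card_of_injective (fun x => (⟨(x : C), ⟨hin _ x.1.2
      (congrArg Subtype.val x.2), x.1.2⟩⟩ : Z)) fun x y h => ?_
    exact Subtype.ext (Subtype.ext (congrArg (fun z : Z => (z : G)) h))
  by_cases hab : IsMulCommutative R
  · have hR2 : Nat.card R ≤ p ^ 2 := hr R hab hRe
    refine .step C ⊤ hTC inferInstance le_top ?_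
    rw [relIndex_top_right]
    exact fun h => not_sq_dvd_index_centralizer hRe hR2 ((pow_dvd_pow p (by norm_num)).trans h)
  have hRp : IsPGroup p R := fun r => ⟨1, Subtype.ext (by simpa using hRe r r.2)⟩
  obtain ⟨n, hn⟩ := IsPGroup.iff_card.mp hRp
  have hn3 : n ≤ 3 := (Nat.pow_le_pow_iff_right hp.out.one_lt).mp (hn ▸
    OddOrder.BG4.card_le_of_exponent hp2 (fun r : R => Subtype.ext (hRe r r.2))
      (OddOrder.BG4.pRankLE_subgroup R hr))
  have hn3' : n = 3 := by
    by_contra hne
    have h2 : Nat.card R ∣ p ^ 2 := hn ▸ pow_dvd_pow p (by omega)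
    rcases Nat.lt_or_ge n 2 with h | h
    · haveI : IsCyclic R := by
        rcases (show n = 0 ∨ n = 1 by omega) with rfl | rfl
        · haveI : Subsingleton R := (Nat.card_eq_one_iff_unique.mp (by simpa using hn)).1
          infer_instance
        · exact isCyclic_of_prime_card (p := p) (by simpa using hn)
      exact hab inferInstance
    · exact hab (IsPGroup.isMulCommutative_of_card_eq_prime_sq
        (show Nat.card R = p ^ 2 by rw [hn, show n = 2 by omega]))
  subst hn3'
  -- `R` is generated by two elements whose commutator generates `Z`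
  have hlt : ∀ {A B : Subgroup G}, A ≤ B → B ≤ R → A ≠ B → Nat.card A * p ≤ Nat.card B := by
    intro A B hAB hBR hne
    obtain ⟨i, hi⟩ := IsPGroup.iff_card.mp (hRp.to_le (hAB.trans hBR))
    obtain ⟨j, hj⟩ := IsPGroup.iff_card.mp (hRp.to_le hBR)
    have h2 : p ^ i < p ^ j := hi ▸ hj ▸
      Set.ncard_lt_ncard (SetLike.coe_ssubset_coe.mpr (hAB.lt_of_ne hne)) (Set.toFinite _)
    rw [hi, hj, ← pow_succ]
    exact Nat.pow_le_pow_right hp.out.pos ((Nat.pow_lt_pow_iff_right hp.out.one_lt).mp h2)
  have hZR : Z ≤ R := inf_le_left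
  have hZne : p ≤ Nat.card Z := by
    haveI : Nontrivial R := by
      rw [← Finite.one_lt_card_iff_nontrivial, hn]
      exact Nat.one_lt_pow (by norm_num) hp.out.one_lt
    haveI := hRp.center_nontrivial
    obtain ⟨z, hz⟩ := exists_ne (1 : center R)
    have hne : Z ≠ ⊥ := by
      intro h
      have : ((z : R) : G) ∈ Z := ⟨(z : R).2, mem_centralizer_iff.mpr fun r hr' =>
        congrArg Subtype.val (mem_center_iff.mp z.2 ⟨r, hr'⟩)⟩
      rw [h, mem_bot] at this
      exact hz (Subtype.ext (Subtype.ext this))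
    simpa using hlt bot_le hZR hne.symm
  obtain ⟨a, ha, haZ⟩ : ∃ a ∈ R, a ∉ Z := by
    by_contra h
    push Not at h
    exact hab (le_centralizer_iff_isMulCommutative.mp fun r hr' => (h r hr').2)
  set A := Z ⊔ zpowers a with hAdef
  have hAR : A ≤ R := sup_le hZR (zpowers_le.mpr ha)
  have hAZ : Z ≠ A := fun h => haZ (h.ge (mem_sup_right (mem_zpowers a)))
  have hAab : IsMulCommutative A := by
    rw [← le_centralizer_iff_isMulCommutative]
    have h1 : zpowers a ≤ centralizer (A : Set G) := by
      rw [le_centralizer_iff]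
      exact sup_le (inf_le_right.trans (centralizer_le (zpowers_le.mpr ha)))
        (le_centralizer_iff_isMulCommutative.mpr inferInstance)
    exact sup_le (inf_le_right.trans (centralizer_le hAR)) h1
  have hARne : A ≠ R := fun h => hab (h ▸ hAab)
  obtain ⟨b, hb, hbA⟩ := SetLike.exists_of_lt (lt_of_le_of_ne hAR hARne)
  set W := Z ⊔ Subgroup.closure ({a, b} : Set G) with hWdef
  have habR : Subgroup.closure ({a, b} : Set G) ≤ R := (closure_le _).mpr (by
    rintro x (rfl | rfl) <;> assumption)
  have hAW : A ≤ W := sup_le le_sup_left (zpowers_le.mpr (mem_sup_right (subset_closure (by simp))))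
  have hAWne : A ≠ W := fun h => hbA (h.ge (mem_sup_right (subset_closure (by simp))))
  have hcA := hlt le_sup_left hAR hAZ
  have hcW := hlt hAW (sup_le hZR habR) hAWne
  have hW : W = R := eq_of_le_of_card_ge (sup_le hZR habR) (by
    rw [hn]
    calc p ^ 3 = p * p * p := by ring
      _ ≤ Nat.card Z * p * p := Nat.mul_le_mul_right p (Nat.mul_le_mul_right p hZne)
      _ ≤ Nat.card A * p := Nat.mul_le_mul_right p hcA
      _ ≤ Nat.card W := hcW)
  have hZp : Nat.card Z = p := by
    have h1 := card_le_of_le (hW.le : W ≤ R)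
    rw [hn] at h1
    have h2 : Nat.card Z * p * p ≤ p * p * p := by
      calc Nat.card Z * p * p ≤ Nat.card A * p := Nat.mul_le_mul_right p hcA
        _ ≤ Nat.card W := hcW
        _ ≤ p * p * p := h1.trans (le_of_eq (by ring))
    exact le_antisymm (Nat.le_of_mul_le_mul_right (Nat.le_of_mul_le_mul_right h2 hp.out.pos)
      hp.out.pos) hZne
  -- the quotient `R/Z`
  set q := QuotientGroup.mk' Z with hqdef
  set V := R.map q with hVdef
  haveI : V.Normal := hRn.map _ (QuotientGroup.mk'_surjective Z)
  have hV2 : Nat.card V = p ^ 2 := by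
    have h := relIndex_ker (K := R) q
    rw [hqdef, QuotientGroup.ker_mk'] at h
    have h' : Nat.card Z * Z.relIndex R = Nat.card R := by
      exact relIndex_bot_left Z ▸ relIndex_bot_left R ▸ relIndex_mul_relIndex ⊥ Z R bot_le hZR
    rw [h, hZp, hn, pow_succ'] at h'
    exact mul_left_cancel₀ hp.out.ne_zero h'
  have hVab : IsMulCommutative V := IsPGroup.isMulCommutative_of_card_eq_prime_sq hV2
  have hcZ : ⁅a, b⁆ ∈ Z := by
    rw [← QuotientGroup.eq_one_iff]
    show q ⁅a, b⁆ = 1
    rw [map_commutatorElement, commutatorElement_eq_one_iff_mul_comm]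
    exact congrArg Subtype.val (hVab.is_comm.comm ⟨_, mem_map_of_mem q ha⟩ ⟨_, mem_map_of_mem q hb⟩)
  have hab1 : ⁅a, b⁆ ≠ 1 := by
    intro h
    refine hab (le_centralizer_iff_isMulCommutative.mp ?_)
    have hc : Commute a b := commutatorElement_eq_one_iff_commute.mp h
    have h1 : Subgroup.closure ({a, b} : Set G) ≤ centralizer (Subgroup.closure ({a, b} : Set G) : Set G) := by
      rw [centralizer_closure, closure_le]
      rintro x (rfl | rfl) <;> refine mem_centralizer_iff.mpr ?_ <;> rintro y (rfl | rfl) <;>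
        first | rfl | exact hc.eq | exact hc.eq.symm
    have h2 : Subgroup.closure ({a, b} : Set G) ≤ centralizer (R : Set G) := by
      rw [← hW, le_centralizer_iff]
      exact sup_le (inf_le_right.trans (centralizer_le habR)) h1
    calc R = W := hW.symm
      _ ≤ centralizer (R : Set G) := sup_le inf_le_right h2
  have hgen : R = Subgroup.closure ({a, b} : Set G) := by
    refine le_antisymm (hW ▸ sup_le ?_ le_rfl) habR
    have hmem : ⁅a, b⁆ ∈ Subgroup.closure ({a, b} : Set G) := by
      have h1 : a ∈ Subgroup.closure ({a, b} : Set G) := subset_closure (by simp)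
      have h2 : b ∈ Subgroup.closure ({a, b} : Set G) := subset_closure (by simp)
      rw [commutatorElement_def]
      exact mul_mem (mul_mem (mul_mem h1 h2) (inv_mem h1)) (inv_mem h2)
    have hz : zpowers ⁅a, b⁆ = Z := eq_of_le_of_card_ge (zpowers_le.mpr hcZ) (by
      rw [hZp, Nat.card_zpowers]
      obtain ⟨j, hj⟩ := IsPGroup.iff_orderOf.mp (hRp.to_le hZR) ⟨_, hcZ⟩
      rw [← orderOf_coe] at hj
      change orderOf ⁅a, b⁆ = p ^ j at hj
      rw [hj]
      refine Nat.le_self_pow (fun h0 => hab1 (orderOf_eq_one_iff.mp ?_)) p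
      rw [hj, h0, pow_zero])
    exact hz ▸ zpowers_le.mpr hmem
  -- the centralizer of `R/Z`
  set N₁ := (centralizer (V : Set (G ⧸ Z))).comap q with hN₁
  haveI : N₁.Normal := (normal_centralizer).comap q
  have hCN : C ≤ N₁ := fun c hc => mem_centralizer_iff.mpr fun v hv => by
    obtain ⟨r, hr', rfl⟩ := hv
    rw [← map_mul, ← map_mul, mem_centralizer_iff.mp hc r hr']
  have hstep : ¬ p ^ 3 ∣ C.relIndex N₁ := by
    refine not_cube_dvd_of_le index_ne_zero_of_finite ?_
    have hmove : ∀ (x : N₁) (r : G), r ∈ R → (x : G) * r * (x : G)⁻¹ * r⁻¹ ∈ Z := by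
      intro x r hr'
      rw [← QuotientGroup.eq_one_iff]
      show q _ = 1
      rw [map_mul, map_mul, map_mul, map_inv, map_inv,
        (mem_centralizer_iff.mp x.2 _ (mem_map_of_mem q hr')).symm, mul_inv_cancel_right, mul_inv_cancel]
    let f : N₁ → Z × Z := fun x => (⟨_, hmove x a ha⟩, ⟨_, hmove x b hb⟩)
    have hf : ∀ x y : N₁, f x = f y → y⁻¹ * x ∈ C.subgroupOf N₁ := by
      intro x y h
      rw [mem_subgroupOf, hC, hgen, centralizer_closure]
      have e : ∀ r : G, (x : G) * r * (x : G)⁻¹ * r⁻¹ = (y : G) * r * (y : G)⁻¹ * r⁻¹ →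
          r * ((y : G)⁻¹ * x) = (y : G)⁻¹ * x * r := by
        intro r h
        have h' := mul_right_cancel h
        calc r * ((y : G)⁻¹ * x) = (y : G)⁻¹ * ((y : G) * r * (y : G)⁻¹) * x := by group
          _ = (y : G)⁻¹ * ((x : G) * r * (x : G)⁻¹) * x := by rw [h']
          _ = (y : G)⁻¹ * x * r := by group
      refine mem_centralizer_iff.mpr ?_
      rintro r (rfl | rfl)
      · exact e _ (congrArg (fun z : Z × Z => (z.1 : G)) h)
      · exact e _ (congrArg (fun z : Z × Z => (z.2 : G)) h)
    calc C.relIndex N₁ = Nat.card (N₁ ⧸ C.subgroupOf N₁) := rfl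
      _ ≤ Nat.card (Z × Z) := Nat.card_le_card_of_injective (fun c => f c.out) fun c d h => by
          rw [← c.out_eq', ← d.out_eq']
          exact (QuotientGroup.eq.mpr (hf _ _ h)).symm
      _ = p ^ 2 := by rw [Nat.card_prod, hZp, sq]
  refine .step N₁ ⊤ (.step C N₁ hTC inferInstance hCN hstep) inferInstance le_top ?_
  rw [relIndex_top_right, hN₁, index_comap_of_surjective _ (QuotientGroup.mk'_surjective Z)]
  refine fun h => not_sq_dvd_index_centralizer (V := V) ?_ hV2.le
    ((pow_dvd_pow p (by norm_num)).trans h)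
  rintro _ ⟨r, hr', rfl⟩
  rw [← map_pow, hRe r hr', map_one]

/-- A tower to the whole group. -/
theorem tower_top (hp2 : p ≠ 2) (hG : Cfsg.IsPSolvable p G) (hr : Cfsg.PRankLE p 2 G) :
    Tower p (⊤ : Subgroup G) := by
  set O := Cfsg.pPrimeCore p G
  haveI : O.Normal := inferInstance
  have hO : ¬ p ∣ Nat.card O :=
    (Nat.Prime.coprime_iff_not_dvd hp.out).mp (PLocal.coprime_card_pPrimeCore p G).symm
  set q := QuotientGroup.mk' O
  have hT := tower_top_of_core hp2 (PLocal.isPSolvable_quotient hG O)
    (OddOrder.BG4.pRankLE_quotient_coprime O hO hr) (PLocal.pPrimeCore_quotient_pPrimeCore_eq_bot p G)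
  have key : ∀ N : Subgroup (G ⧸ O), Tower p N → Tower p (N.comap q) := by
    intro N hN
    induction hN with
    | base N hN' h =>
      refine .base _ (hN'.comap q) ?_
      rw [show Nat.card (N.comap q) = Nat.card O * Nat.card N by
        show Nat.card (QuotientGroup.mk ⁻¹' (N : Set (G ⧸ O))) = _
        rw [Nat.card_congr (QuotientGroup.preimageMkEquivSubgroupProdSet O _), Nat.card_prod,
          SetLike.coe_sort_coe]]
      intro hd
      exact (hp.out.dvd_mul.mp hd).elim hO h
    | step N N' hT hN' hle h ih =>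
      refine .step _ _ ih (hN'.comap q) (comap_mono hle) ?_
      rw [relIndex_comap, map_comap_eq_self_of_surjective (QuotientGroup.mk'_surjective O)]
      exact h
  simpa using key ⊤ hT

end CfsgLib.ChiefRankTwo
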